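import Groth.Prelude.Def_FrobAlg
import Mathlib

/-!
# Regular rings in characteristic `p` with projective Frobenius: the perfect closure
-/

set_option autoImplicit false
set_option backward.isDefEq.respectTransparency false
set_option linter.style.haveILetI false

universe u v w

open TensorProduct

namespace Groth.Agent.H27PrePerf

theorem eq_zero_of_forall_proj {R : Type u} [CommRing R] {P : Type v} [AddCommGroup P] [Module R P]
    [Module.Projective R P] {N : Type w} [AddCommGroup N] [Module R N] {ι : Type*} {M : ι → Type*}
    [∀ i, AddCommGroup (M i)] [∀ i, Module R (M i)] (g : ∀ i, N →ₗ[R] M i)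
    (hg : ∀ n, (∀ i, g i n = 0) → n = 0) (x : P ⊗[R] N)
    (hx : ∀ i, (g i).lTensor P x = 0) : x = 0 := by
  classical
  obtain ⟨s, hs⟩ := Module.projective_def.1 ‹Module.Projective R P›
  have key : ∀ i a (z : P ⊗[R] N),
      TensorProduct.finsuppScalarLeft R (M i) P (s.rTensor (M i) ((g i).lTensor P z)) a =
        g i (TensorProduct.finsuppScalarLeft R N P (s.rTensor N z) a) := by
    intro i a z
    induction z using TensorProduct.induction_on with
    | zero => simp
    | tmul y n => simp
    | add z z' h h' => simp [h, h']
  have h0 : s.rTensor N x = 0 := by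
    apply (TensorProduct.finsuppScalarLeft R N P).injective
    rw [map_zero]
    refine Finsupp.ext fun a => ?_
    rw [Finsupp.zero_apply]
    refine hg _ fun i => ?_
    rw [← key, hx i]
    simp
  have h1 : (Finsupp.linearCombination R (id : P → P)).rTensor N (s.rTensor N x) = x := by
    rw [← LinearMap.rTensor_comp_apply, show Finsupp.linearCombination R id ∘ₗ s = LinearMap.id
      from LinearMap.ext hs, LinearMap.rTensor_id_apply]
  rw [← h1, h0, map_zero]

set_option linter.unusedVariables false in
/-- `R` as an algebra over itself through the `n`-th iterate of Frobenius. -/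
@[nolint unusedArguments] def W (p : ℕ) (R : Type u) (n : ℕ) : Type u := R

variable (p : ℕ) [hp : Fact p.Prime] (R : Type u) [CommRing R] [CharP R p]

instance (n : ℕ) : CommRing (W p R n) := inferInstanceAs (CommRing R)

instance (n : ℕ) : CharP (W p R n) p := inferInstanceAs (CharP R p)

/-- The identity of underlying rings. -/
def toW (n : ℕ) : R ≃+* W p R n := RingEquiv.refl R

noncomputable instance algW (n : ℕ) : Algebra R (W p R n) :=
  ((toW p R n : R →+* W p R n).comp (iterateFrobenius R p n)).toAlgebra

theorem algebraMap_W (n : ℕ) (r : R) : algebraMap R (W p R n) r = toW p R n (r ^ p ^ n) := rfl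

/-- The transition maps. -/
noncomputable def tr (n m : ℕ) (h : n ≤ m) : W p R n →ₗ[R] W p R m where
  toFun x := toW p R m ((toW p R n).symm x ^ p ^ (m - n))
  map_add' x y := by
    haveI : ExpChar R p := .prime hp.out
    rw [map_add, add_pow_char_pow, map_add]
  map_smul' r x := by
    simp only [RingHom.id_apply, Algebra.smul_def, algebraMap_W, map_mul, RingEquiv.symm_apply_apply,
      mul_pow, ← pow_mul, ← pow_add, Nat.add_sub_cancel' h]

noncomputable instance algSucc (n : ℕ) : Algebra (W p R n) (W p R (n + 1)) :=
  ((toW p R (n + 1) : R →+* W p R (n + 1)).comp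
    ((frobenius R p).comp ((toW p R n).symm : W p R n →+* R))).toAlgebra

instance tower (n : ℕ) : IsScalarTower R (W p R n) (W p R (n + 1)) :=
  IsScalarTower.of_algebraMap_eq fun r => by
    change toW p R (n + 1) (r ^ p ^ (n + 1)) = toW p R (n + 1) ((r ^ p ^ n) ^ p)
    rw [← pow_mul, ← pow_succ]

variable [hproj : Module.Projective R (FrobAlg.Twist p R)]

instance projective_succ (n : ℕ) : Module.Projective (W p R n) (W p R (n + 1)) := by
  haveI : RingHomInvPair (toW p R n : R →+* W p R n) ((toW p R n).symm : W p R n →+* R) :=
    ⟨RingHom.ext fun _ => rfl, RingHom.ext fun _ => rfl⟩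
  haveI : RingHomInvPair ((toW p R n).symm : W p R n →+* R) (toW p R n : R →+* W p R n) :=
    ⟨RingHom.ext fun _ => rfl, RingHom.ext fun _ => rfl⟩
  let e : FrobAlg.Twist p R ≃ₛₗ[(toW p R n : R →+* W p R n)] W p R (n + 1) :=
    { toFun := fun x => toW p R (n + 1) ((FrobAlg.toTwist p R).symm x)
      invFun := fun y => FrobAlg.toTwist p R ((toW p R (n + 1)).symm y)
      left_inv := fun x => rfl
      right_inv := fun y => rfl
      map_add' := fun x y => rfl
      map_smul' := fun r x => by
        simp only [Algebra.smul_def, map_mul, FrobAlg.algebraMap_twist, RingEquiv.symm_apply_apply]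
        rfl }
  exact Module.Projective.of_equiv e

instance projective_W : ∀ n, Module.Projective R (W p R n)
  | 0 => Module.Projective.of_equiv'
      ({ toFun := fun r => toW p R 0 r
         invFun := fun y => (toW p R 0).symm y
         left_inv := fun _ => rfl
         right_inv := fun _ => rfl
         map_add' := fun _ _ => rfl
         map_smul' := fun r x => by
          simp [Algebra.smul_def, algebraMap_W] } : R ≃ₗ[R] W p R 0)
  | n + 1 => by
    haveI := projective_W n
    obtain ⟨s, hs⟩ := Module.projective_def.1 (projective_succ p R n)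
    haveI : Module.Projective R (W p R (n + 1) →₀ W p R n) := by
      classical
      exact Module.Projective.of_equiv' (finsuppLequivDFinsupp R).symm
    exact Module.Projective.of_split (s.restrictScalars R)
      ((Finsupp.linearCombination (W p R n) (id : W p R (n + 1) → _)).restrictScalars R)
      (LinearMap.ext hs)

instance faithfullyFlat_succ (n : ℕ) : Module.FaithfullyFlat (W p R n) (W p R (n + 1)) where
  submodule_ne_top m hm h := by
    let m' : Ideal (W p R (n + 1)) :=
      m.comap ((toW p R n : R →+* W p R n).comp ((toW p R (n + 1)).symm : W p R (n + 1) →+* R))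
    have hle : (m • ⊤ : Submodule (W p R n) (W p R (n + 1))) ≤ m'.restrictScalars (W p R n) := by
      refine Submodule.smul_le.2 fun r hr x _ => ?_
      change (r • x : W p R (n + 1)) ∈ m'
      rw [Algebra.smul_def]
      refine Ideal.mul_mem_right _ _ ?_
      change toW p R n (((toW p R n).symm r) ^ p) ∈ m
      rw [map_pow, RingEquiv.apply_symm_apply]
      exact Ideal.pow_mem_of_mem _ hr p hp.out.pos
    rw [h] at hle
    refine hm.ne_top ((Ideal.eq_top_iff_one _).2 ?_)
    have := hle (Submodule.mem_top (x := (1 : W p R (n + 1))))
    simpa [m'] using this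

theorem tr_rTensor_succ_injective (n : ℕ) (M : Type w) [AddCommGroup M] [Module R M] :
    Function.Injective ((tr p R n (n + 1) n.le_succ).rTensor M) := by
  have h1 : Function.Injective (TensorProduct.mk (W p R n) (W p R (n + 1)) (W p R n ⊗[R] M) 1) :=
    Module.FaithfullyFlat.tensorProduct_mk_injective _
  have h2 : ∀ x, (tr p R n (n + 1) n.le_succ).rTensor M x =
      TensorProduct.AlgebraTensorModule.cancelBaseChange R (W p R n) (W p R n) (W p R (n + 1)) M
        (TensorProduct.mk (W p R n) (W p R (n + 1)) (W p R n ⊗[R] M) 1 x) := by
    intro x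
    induction x using TensorProduct.induction_on with
    | zero => simp
    | tmul a m =>
      rw [TensorProduct.mk_apply, LinearMap.rTensor_tmul,
        TensorProduct.AlgebraTensorModule.cancelBaseChange_tmul, Algebra.smul_def, mul_one]
      change toW p R (n + 1) (((toW p R n).symm a) ^ p ^ (n + 1 - n)) ⊗ₜ[R] m = _
      rw [Nat.add_sub_cancel_left, pow_one]
      rfl
    | add a b ha hb => rw [map_add, map_add, map_add, ha, hb]
  intro x y h
  rw [h2, h2] at h
  exact h1 ((LinearEquiv.injective _) h)

instance directed : DirectedSystem (W p R) (tr p R · · ·) where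
  map_self n x := by simp [tr]
  map_map k j i hij hjk x := by
    simp only [tr, LinearMap.coe_mk, AddHom.coe_mk, RingEquiv.symm_apply_apply, ← pow_mul, ← pow_add]
    congr 3
    omega

theorem tr_rTensor_injective {n m : ℕ} (h : n ≤ m) (M : Type w) [AddCommGroup M] [Module R M] :
    Function.Injective ((tr p R n m h).rTensor M) := by
  induction h with
  | refl =>
    intro x y hxy
    have : tr p R n n le_rfl = LinearMap.id := LinearMap.ext fun z =>
      DirectedSystem.map_self (f := (tr p R · · ·)) z
    rwa [this, LinearMap.rTensor_id_apply, LinearMap.rTensor_id_apply] at hxy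
  | @step m h ih =>
    have : tr p R n (m + 1) (Nat.le_trans h m.le_succ) = tr p R m (m + 1) m.le_succ ∘ₗ tr p R n m h :=
      LinearMap.ext fun z => (DirectedSystem.map_map (f := (tr p R · · ·)) h m.le_succ z).symm
    intro x y hxy
    change (tr p R n (m + 1) _).rTensor M x = (tr p R n (m + 1) _).rTensor M y at hxy
    rw [this, LinearMap.rTensor_comp, LinearMap.comp_apply, LinearMap.comp_apply] at hxy
    exact ih (tr_rTensor_succ_injective p R m M hxy)

theorem frobenius_injective : Function.Injective (frobenius R p) := by
  have h : Function.Injective (algebraMap (W p R 0) (W p R 1)) :=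
    FaithfulSMul.algebraMap_injective _ _
  exact fun a b hab => h (show algebraMap (W p R 0) (W p R 1) (toW p R 0 a) =
    algebraMap (W p R 0) (W p R 1) (toW p R 0 b) from congrArg (toW p R 1) hab)

/-- The map of a stage to the perfect closure. -/
noncomputable def toPerf (n : ℕ) :
    letI : Algebra R (PerfectClosure R p) := (PerfectClosure.of R p).toAlgebra
    W p R n →ₗ[R] PerfectClosure R p :=
  letI : Algebra R (PerfectClosure R p) := (PerfectClosure.of R p).toAlgebra
  { toFun := fun x => PerfectClosure.mk R p (n, (toW p R n).symm x)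
    map_add' := fun x y => by
      rw [map_add, PerfectClosure.mk_add_mk, PerfectClosure.mk_eq_iff]
      refine ⟨0, ?_⟩
      simp only [add_zero, map_add, iterate_map_add, ← Function.iterate_add_apply]
    map_smul' := fun r x => by
      rw [RingHom.id_apply, Algebra.smul_def, Algebra.smul_def, algebraMap_W,
        RingHom.algebraMap_toAlgebra, PerfectClosure.of_apply, PerfectClosure.mk_mul_mk, map_mul,
        RingEquiv.symm_apply_apply]
      simp [← iterate_frobenius] }

theorem exists_directLimit_equiv :
    letI : Algebra R (PerfectClosure R p) := (PerfectClosure.of R p).toAlgebra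
    Nonempty (Module.DirectLimit (W p R) (tr p R) ≃ₗ[R] PerfectClosure R p) := by
  letI : Algebra R (PerfectClosure R p) := (PerfectClosure.of R p).toAlgebra
  have Hg : ∀ i j hij x, toPerf p R j (tr p R i j hij x) = toPerf p R i x := fun i j hij x => by
    change PerfectClosure.mk R p (j, ((toW p R i).symm x) ^ p ^ (j - i)) =
      PerfectClosure.mk R p (i, (toW p R i).symm x)
    rw [PerfectClosure.mk_eq_iff]
    refine ⟨0, ?_⟩
    simp only [iterate_frobenius, add_zero, ← pow_mul, ← pow_add]
    congr 2
    omega
  refine ⟨LinearEquiv.ofBijective (Module.DirectLimit.lift R ℕ (W p R) (tr p R) (toPerf p R) Hg)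
    ⟨Module.DirectLimit.lift_injective _ _ fun i x y hxy => ?_, fun z => ?_⟩⟩
  · change PerfectClosure.mk R p (i, (toW p R i).symm x) =
      PerfectClosure.mk R p (i, (toW p R i).symm y) at hxy
    rw [PerfectClosure.mk_eq_iff] at hxy
    obtain ⟨z, hz⟩ := hxy
    exact (toW p R i).symm.injective ((frobenius_injective p R).iterate _ hz)
  · induction z using PerfectClosure.induction_on with
    | h y =>
      exact ⟨Module.DirectLimit.of R ℕ (W p R) (tr p R) y.1 (toW p R y.1 y.2),
        Module.DirectLimit.lift_of _ _ _⟩

/-- Kernels of families of maps survive base change to the perfect closure. -/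
theorem eq_zero_of_forall {N : Type w} [AddCommGroup N] [Module R N] {ι : Type*} {M : ι → Type v}
    [∀ i, AddCommGroup (M i)] [∀ i, Module R (M i)] (g : ∀ i, N →ₗ[R] M i)
    (hg : ∀ n, (∀ i, g i n = 0) → n = 0) :
    letI : Algebra R (PerfectClosure R p) := (PerfectClosure.of R p).toAlgebra
    ∀ x : PerfectClosure R p ⊗[R] N, (∀ i, (g i).lTensor _ x = 0) → x = 0 := by
  letI : Algebra R (PerfectClosure R p) := (PerfectClosure.of R p).toAlgebra
  intro x hx
  obtain ⟨e⟩ := exists_directLimit_equiv p R
  obtain ⟨x', rfl⟩ := (TensorProduct.congr e (LinearEquiv.refl R N)).surjective x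
  obtain ⟨z, rfl⟩ := (TensorProduct.directLimitLeft (tr p R) N).symm.surjective x'
  obtain ⟨n, y, rfl⟩ := Module.DirectLimit.exists_of z
  have hy : y = 0 := by
    refine eq_zero_of_forall_proj g hg y fun i => ?_
    have h1 : ∀ w : W p R n ⊗[R] N, TensorProduct.directLimitLeft (tr p R) (M i)
        ((TensorProduct.congr e (LinearEquiv.refl R (M i))).symm
          ((g i).lTensor _ (TensorProduct.congr e (LinearEquiv.refl R N)
            ((TensorProduct.directLimitLeft (tr p R) N).symm
              (Module.DirectLimit.of R ℕ (W p R · ⊗[R] N) (fun a b h => (tr p R a b h).rTensor N) n w))))) =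
        Module.DirectLimit.of R ℕ (W p R · ⊗[R] M i) (fun a b h => (tr p R a b h).rTensor (M i)) n
          ((g i).lTensor _ w) := by
      intro w
      induction w using TensorProduct.induction_on with
      | zero => simp only [map_zero]
      | tmul a b =>
        rw [TensorProduct.directLimitLeft_symm_of_tmul, TensorProduct.congr_tmul, LinearMap.lTensor_tmul,
          TensorProduct.congr_symm_tmul, e.symm_apply_apply, LinearMap.lTensor_tmul]
        exact TensorProduct.directLimitLeft_tmul_of (tr p R) _ a (g i b)
      | add a b ha hb => simp only [map_add, ha, hb]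
    have h2 := h1 y
    rw [hx i, map_zero, map_zero] at h2
    obtain ⟨m, hm, hm0⟩ := Module.DirectLimit.of.zero_exact h2.symm
    exact tr_rTensor_injective p R hm (M i) (hm0.trans (map_zero _).symm)
  rw [hy, map_zero, map_zero, map_zero]

end Groth.Agent.H27PrePerf
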